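import Mathlib
import Cfsg.Prelude.Def_KGroupFacts
import Cfsg.Agent.Transfer.CentralTransfer
import Cfsg.Agent.S0102
import Cfsg.Agent.KFacts.MulBound
set_option linter.all false

/-!
# Schur multipliers of finite perfect groups: the framework

* `PCE π`: `π : L → X` is surjective with central kernel and `L` is perfect.
* `NoCov p X`: there is no finite perfect central extension of `X` with kernel of order `p`.
* `Bd p k X`: in every finite perfect central extension of `X` whose kernel is a `p`-group, that kernel is cyclic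
  of order dividing `p ^ k`.
* `hasCyclic`, `hasCyclic_one`: from the local bounds to `HasCyclicSchurMultiplier`.
* `PCE.le_commutator_comap`: if `p` does not divide `|X : P|` and the kernel is a `p`-group, then the kernel is contained
  in the commutator subgroup of the preimage of `P`.
-/

set_option autoImplicit false
set_option linter.style.haveILetI false
set_option linter.unusedVariables false

namespace Cfsg.Agent.H51.Mult

open Subgroup
open scoped commutatorElement

universe u v w

/-- `π : L → X` is a perfect central extension. -/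
structure PCE {L : Type u} {X : Type v} [Group L] [Group X] (π : L →* X) : Prop where
  surj : Function.Surjective π
  cen : π.ker ≤ center L
  perf : commutator L = ⊤

/-- no perfect central extension with kernel of order `p` -/
def NoCov (p : ℕ) (X : Type v) [Group X] : Prop :=
  ∀ (L : Type) [Group L] [Finite L] (π : L →* X), PCE π → Nat.card π.ker ≠ p

/-- the `p`-part of the multiplier is cyclic of order dividing `p ^ k` -/
def Bd (p k : ℕ) (X : Type v) [Group X] : Prop :=
  ∀ (L : Type) [Group L] [Finite L] (π : L →* X), PCE π → IsPGroup p π.ker →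
    IsCyclic π.ker ∧ Nat.card π.ker ∣ p ^ k

section basic

variable {L : Type u} {X : Type v} [Group L] [Group X] {π : L →* X}

theorem PCE.comm (h : PCE π) {z : L} (hz : π z = 1) (g : L) : z * g = g * z :=
  (mem_center_iff.1 (h.cen (MonoidHom.mem_ker.2 hz)) g).symm

theorem PCE.perf_base (h : PCE π) : commutator X = ⊤ :=
  Cfsg.Agent.KFacts.MulDef.commutator_top_of_surj π h.surj h.perf

theorem PCE.of_stem (h : Cfsg.IsStemExtension π) (hX : commutator X = ⊤) : PCE π where
  surj := h.1
  cen := h.2.1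
  perf := by
    rw [eq_top_iff]
    intro g _
    have h1 : π g ∈ (commutator L).map π := by
      rw [commutator_def, Subgroup.map_commutator, Subgroup.map_top_of_surjective π h.1, ← commutator_def, hX]
      exact mem_top _
    obtain ⟨c, hc, hcg⟩ := h1
    have h2 : c⁻¹ * g ∈ π.ker := by rw [MonoidHom.mem_ker, map_mul, map_inv, hcg, inv_mul_cancel]
    have h3 := mul_mem hc (h.2.2 h2)
    rwa [mul_inv_cancel_left] at h3

theorem PCE.toStem (h : PCE π) : Cfsg.IsStemExtension π :=
  ⟨h.surj, h.cen, by rw [h.perf]; exact le_top⟩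

theorem normal_of_le_center {N : Subgroup L} (hN : N ≤ center L) : N.Normal where
  conj_mem n hn g := by
    have h1 : n ∈ center L := hN hn
    rw [mem_center_iff.1 h1 g, mul_inv_cancel_right]
    exact hn

theorem PCE.congr {X' : Type w} [Group X'] (h : PCE π) (e : X ≃* X') : PCE (e.toMonoidHom.comp π) where
  surj := e.surjective.comp h.surj
  cen := by
    intro x hx
    apply h.cen
    rw [MonoidHom.mem_ker] at hx ⊢
    exact e.injective (by rw [map_one]; exact hx)
  perf := h.perf

theorem ker_congr {X' : Type w} [Group X'] (π : L →* X) (e : X ≃* X') : (e.toMonoidHom.comp π).ker = π.ker := by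
  ext x
  rw [MonoidHom.mem_ker, MonoidHom.mem_ker]
  constructor
  · intro hx
    exact e.injective (by rw [map_one]; exact hx)
  · intro hx
    show e (π x) = 1
    rw [hx, map_one]

theorem PCE.comp_equiv {L' : Type w} [Group L'] (h : PCE π) (e : L' ≃* L) : PCE (π.comp e.toMonoidHom) where
  surj := h.surj.comp e.surjective
  cen := by
    intro x hx
    rw [MonoidHom.mem_ker] at hx
    rw [mem_center_iff]
    intro g
    apply e.injective
    rw [map_mul, map_mul]
    exact (h.comm hx (e g)).symm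
  perf := Cfsg.Agent.KFacts.MulDef.commutator_top_of_surj e.symm.toMonoidHom e.symm.surjective h.perf

/-- the kernel of `π ∘ e` -/
def kerEquiv {L' : Type w} [Group L'] (π : L →* X) (e : L' ≃* L) : (π.comp e.toMonoidHom).ker ≃* π.ker where
  toFun x := ⟨e x, x.2⟩
  invFun x := ⟨e.symm x, by
    rw [MonoidHom.mem_ker]
    show π (e (e.symm x)) = 1
    rw [e.apply_symm_apply]
    exact x.2⟩
  left_inv x := Subtype.ext (e.symm_apply_apply _)
  right_inv x := Subtype.ext (e.apply_symm_apply _)
  map_mul' x y := Subtype.ext (map_mul e _ _)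

/-- reduction to `Type` -/
theorem PCE.lower [Finite L] (h : PCE π) : ∃ (L' : Type) (_ : Group L') (_ : Finite L') (ρ : L' →* X),
    PCE ρ ∧ Nonempty (ρ.ker ≃* π.ker) := by
  have : Small.{0} L := by
    obtain ⟨n, ⟨e⟩⟩ := Finite.exists_equiv_fin L
    exact small_map e
  let e : Shrink.{0} L ≃* L := Shrink.mulEquiv (α := L)
  have : Finite (Shrink.{0} L) := Finite.of_equiv L e.symm.toEquiv
  exact ⟨Shrink.{0} L, inferInstance, this, π.comp e.toMonoidHom, h.comp_equiv e, ⟨kerEquiv π e⟩⟩

/-- The quotient of a perfect central extension by a subgroup of the kernel. -/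
theorem PCE.quot (h : PCE π) {N : Subgroup L} (hN : N ≤ π.ker) :
    ∃ (L' : Type u) (_ : Group L') (q : L →* L') (ρ : L' →* X), Function.Surjective q ∧ q.ker = N ∧
      (∀ x, ρ (q x) = π x) ∧ PCE ρ := by
  haveI : N.Normal := normal_of_le_center (hN.trans h.cen)
  have hs := QuotientGroup.mk'_surjective N
  refine ⟨L ⧸ N, inferInstance, QuotientGroup.mk' N, QuotientGroup.lift N π (fun x hx => hN hx), hs,
    QuotientGroup.ker_mk' N, fun x => rfl, ?_, ?_, ?_⟩
  · intro x
    obtain ⟨y, rfl⟩ := h.surj x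
    exact ⟨QuotientGroup.mk' N y, rfl⟩
  · intro x hx
    obtain ⟨y, rfl⟩ := hs x
    rw [mem_center_iff]
    intro g
    obtain ⟨g, rfl⟩ := hs g
    rw [← map_mul, ← map_mul, h.comm (z := y) hx g]
  · exact Cfsg.Agent.KFacts.MulDef.commutator_top_of_surj _ hs h.perf

theorem card_ker_of_quot {L' : Type u} [Group L'] {q : L →* L'} {ρ : L' →* X} (hq : Function.Surjective q)
    (hρ : ∀ x, ρ (q x) = π x) : Nat.card π.ker = Nat.card ρ.ker * Nat.card q.ker := by
  let f : π.ker →* ρ.ker := (q.comp π.ker.subtype).codRestrict _ (fun x => by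
    rw [MonoidHom.mem_ker]
    exact (hρ x).trans x.2)
  have hf : Function.Surjective f := by
    rintro ⟨y, hy⟩
    obtain ⟨x, rfl⟩ := hq y
    exact ⟨⟨x, by rw [MonoidHom.mem_ker, ← hρ]; exact hy⟩, rfl⟩
  have h1 := Subgroup.card_eq_card_quotient_mul_card_subgroup f.ker
  rw [Nat.card_congr (QuotientGroup.quotientKerEquivOfSurjective f hf).toEquiv] at h1
  rw [h1]
  congr 1
  refine Nat.card_congr ⟨fun x => ⟨x.1.1, ?_⟩, fun x => ⟨⟨x.1, ?_⟩, ?_⟩, fun _ => rfl, fun _ => rfl⟩
  · exact congrArg Subtype.val x.2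
  · rw [MonoidHom.mem_ker, ← hρ, MonoidHom.mem_ker.1 x.2, map_one]
  · exact Subtype.ext x.2

/-- surjection between kernels -/
theorem exists_ker_hom {L' : Type u} [Group L'] {q : L →* L'} {ρ : L' →* X} (hq : Function.Surjective q)
    (hρ : ∀ x, ρ (q x) = π x) : ∃ f : π.ker →* ρ.ker, Function.Surjective f ∧ ∀ x, (f x : L') = q x := by
  refine ⟨(q.comp π.ker.subtype).codRestrict _ (fun x => by
    rw [MonoidHom.mem_ker]
    exact (hρ x).trans x.2), ?_, fun _ => rfl⟩
  rintro ⟨y, hy⟩
  obtain ⟨x, rfl⟩ := hq y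
  exact ⟨⟨x, by rw [MonoidHom.mem_ker, ← hρ]; exact hy⟩, rfl⟩

end basic

/-- A finite abelian group whose order is divisible by `p` has a subgroup of index `p`. -/
theorem exists_index_eq {A : Type u} [Group A] [Finite A] (hA : ∀ a b : A, a * b = b * a) {p : ℕ} (hp : p.Prime)
    (hd : p ∣ Nat.card A) : ∃ B : Subgroup A, B.index = p := by
  haveI : Fact p.Prime := ⟨hp⟩
  letI : CommGroup A := { (inferInstance : Group A) with mul_comm := hA }
  -- the subgroup of `p`-th powers is proper
  let s : A →* A := powMonoidHom p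
  obtain ⟨a, ha⟩ := exists_prime_orderOf_dvd_card' p hd
  have hs : ¬ Function.Injective s := by
    intro hi
    have h1 : s a = s 1 := by
      show a ^ p = 1 ^ p
      rw [one_pow, ← ha, pow_orderOf_eq_one]
    have h2 := hi h1
    rw [h2, orderOf_one] at ha
    exact hp.one_lt.ne ha
  have hs' : ¬ Function.Surjective s := fun h => hs (Finite.injective_iff_surjective.2 h)
  -- a maximal subgroup above the range
  have hr : s.range ≠ ⊤ := fun h => hs' (MonoidHom.range_eq_top.1 h)
  obtain ⟨M, hM, hle⟩ := (eq_top_or_exists_le_coatom s.range).resolve_left hr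
  refine ⟨M, ?_⟩
  -- the quotient is a simple commutative `p`-group
  have hsimple : IsSimpleGroup (A ⧸ M) := by
    haveI : Nontrivial (A ⧸ M) := by
      rw [QuotientGroup.nontrivial_iff]
      exact hM.1
    refine ⟨fun K hK => ?_⟩
    have hle' : M ≤ K.comap (QuotientGroup.mk' M) := by
      intro x hx
      rw [mem_comap, QuotientGroup.mk'_apply, (QuotientGroup.eq_one_iff x).2 hx]
      exact one_mem _
    have hsj := QuotientGroup.mk'_surjective M
    rcases hle'.eq_or_lt with h | h
    · left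
      rw [← map_comap_eq_self_of_surjective hsj K, ← h]
      exact QuotientGroup.map_mk'_self M
    · right
      rw [← map_comap_eq_self_of_surjective hsj K, hM.2 _ h]
      exact map_top_of_surjective _ hsj
  have hprime := IsSimpleGroup.prime_card (α := A ⧸ M)
  rw [index_eq_card]
  -- an element of order `p`
  obtain ⟨x, hx⟩ := exists_ne (1 : A ⧸ M)
  obtain ⟨y, rfl⟩ := QuotientGroup.mk'_surjective M x
  have h1 : (QuotientGroup.mk' M y) ^ p = 1 := by
    rw [← map_pow]
    exact (QuotientGroup.eq_one_iff _).2 (hle ⟨y, rfl⟩)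
  have h2 : orderOf (QuotientGroup.mk' M y) = p := orderOf_eq_prime h1 hx
  have h3 := orderOf_dvd_natCard (QuotientGroup.mk' M y)
  rw [h2] at h3
  exact ((Nat.prime_dvd_prime_iff_eq hp hprime).1 h3).symm

section bounds

variable {X : Type v} [Group X]

theorem ker_comm {L : Type u} [Group L] {π : L →* X} (h : PCE π) (a b : π.ker) : a * b = b * a :=
  Subtype.ext (h.comm a.2 b)

/-- If the order of the kernel is divisible by `p`, there is a quotient extension with kernel of order `p`. -/
theorem PCE.exists_prime {L : Type u} [Group L] [Finite L] {π : L →* X} (h : PCE π) {p : ℕ} (hp : p.Prime)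
    (hd : p ∣ Nat.card π.ker) : ∃ (L' : Type) (_ : Group L') (_ : Finite L') (ρ : L' →* X),
      PCE ρ ∧ Nat.card ρ.ker = p := by
  obtain ⟨B, hB⟩ := exists_index_eq (ker_comm h) hp hd
  obtain ⟨L₁, _, q, ρ, hq, hk, hρ, h1⟩ := h.quot (N := B.map π.ker.subtype) (map_subtype_le B)
  haveI : Finite L₁ := Finite.of_surjective q hq
  have hc := card_ker_of_quot (π := π) hq hρ
  have hB' : Nat.card q.ker = Nat.card B := by
    rw [hk]
    exact Nat.card_congr (B.equivMapOfInjective π.ker.subtype π.ker.subtype_injective).symm.toEquiv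
  have hB2 := B.card_mul_index
  rw [hB] at hB2
  have hBpos : 0 < Nat.card B := Nat.card_pos
  have h2 : Nat.card ρ.ker = p := by
    rw [hB', ← hB2, mul_comm] at hc
    exact (Nat.eq_of_mul_eq_mul_right hBpos hc).symm
  obtain ⟨L', _, _, ρ', h3, ⟨e⟩⟩ := h1.lower
  exact ⟨L', inferInstance, inferInstance, ρ', h3, by rw [Nat.card_congr e.toEquiv, h2]⟩

theorem NoCov.not_dvd {p : ℕ} (hp : p.Prime) (hX : NoCov p X) {L : Type u} [Group L] [Finite L] {π : L →* X}
    (h : PCE π) : ¬ p ∣ Nat.card π.ker := by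
  intro hd
  obtain ⟨L', _, _, ρ, h1, h2⟩ := h.exists_prime hp hd
  exact hX L' ρ h1 h2

theorem NoCov.bd {p : ℕ} (hp : p.Prime) (hX : NoCov p X) : Bd p 0 X := by
  intro L _ _ π h hP
  haveI : Fact p.Prime := ⟨hp⟩
  obtain ⟨n, hn⟩ := hP.exists_card_eq
  have h1 := hX.not_dvd hp h
  have h2 : n = 0 := by
    by_contra h0
    exact h1 (hn ▸ dvd_pow_self p h0)
  rw [h2, pow_zero] at hn
  refine ⟨?_, by rw [hn, pow_zero]⟩
  haveI : Subsingleton π.ker := (Nat.card_eq_one_iff_unique.1 hn).1
  infer_instance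

theorem NoCov.congr {Y : Type w} [Group Y] {p : ℕ} (h : NoCov p X) (e : X ≃* Y) : NoCov p Y := by
  intro L _ _ π hπ hc
  refine h L (e.symm.toMonoidHom.comp π) (hπ.congr e.symm) ?_
  rw [ker_congr, hc]

theorem Bd.congr {Y : Type w} [Group Y] {p k : ℕ} (h : Bd p k X) (e : X ≃* Y) : Bd p k Y := by
  intro L _ _ π hπ hc
  have h1 := h L (e.symm.toMonoidHom.comp π) (hπ.congr e.symm)
  rw [ker_congr] at h1
  exact h1 hc

theorem Bd.mono {p k l : ℕ} (h : Bd p k X) (hkl : k ≤ l) : Bd p l X := by
  intro L _ _ π hπ hc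
  obtain ⟨h1, h2⟩ := h L π hπ hc
  exact ⟨h1, h2.trans (pow_dvd_pow p hkl)⟩

/-- If `X` has cyclic Sylow `p`-subgroups, there is no `p`-fold cover. -/
theorem noCov_of_cyclic [Finite X] {p : ℕ} (hp : p.Prime) (hc : haveI : Fact p.Prime := ⟨hp⟩; ∀ P : Sylow p X, IsCyclic P) :
    NoCov p X := by
  intro L _ _ π h hk
  haveI : Fact p.Prime := ⟨hp⟩
  refine Cfsg.Agent.S0102.result h.perf_base hc π h.surj h.cen h.perf ?_
  rw [hk]

theorem noCov_of_not_sq_dvd [Finite X] {p : ℕ} (hp : p.Prime) (hc : ¬ p ^ 2 ∣ Nat.card X) : NoCov p X := by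
  apply noCov_of_cyclic hp
  haveI : Fact p.Prime := ⟨hp⟩
  intro P
  obtain ⟨n, hn⟩ := P.isPGroup'.exists_card_eq
  have h1 := Subgroup.card_subgroup_dvd_card (P : Subgroup X)
  rw [hn] at h1
  have h2 : n ≤ 1 := by
    by_contra h0
    exact hc ((pow_dvd_pow p (by omega)).trans h1)
  rcases (by omega : n = 0 ∨ n = 1) with rfl | rfl
  · rw [pow_zero] at hn
    haveI : Subsingleton (P : Subgroup X) := (Nat.card_eq_one_iff_unique.1 hn).1
    infer_instance
  · rw [pow_one] at hn
    exact isCyclic_of_prime_card hn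

/-- A central extension with kernel of order `p ^ m` (`m` arbitrary) is cut down to order `p ^ k`, `k ≤ m`. -/
theorem PCE.exists_pow {L : Type u} [Group L] [Finite L] {π : L →* X} (h : PCE π) {p : ℕ} (hp : p.Prime)
    (hP : IsPGroup p π.ker) {k : ℕ} (hk : p ^ k ∣ Nat.card π.ker) :
    ∃ (L' : Type) (_ : Group L') (_ : Finite L') (ρ : L' →* X), PCE ρ ∧ Nat.card ρ.ker = p ^ k := by
  haveI : Fact p.Prime := ⟨hp⟩
  obtain ⟨m, hm⟩ := hP.exists_card_eq
  have hkm : k ≤ m := by
    rw [hm] at hk
    exact (Nat.pow_dvd_pow_iff_le_right hp.one_lt).1 hk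
  -- a subgroup of order `p ^ (m - k)` of the kernel
  obtain ⟨B, hB⟩ := Sylow.exists_subgroup_card_pow_prime (G := π.ker) p (n := m - k)
    (by rw [hm]; exact pow_dvd_pow p (by omega))
  obtain ⟨L₁, _, q, ρ, hq, hk', hρ, h1⟩ := h.quot (N := B.map π.ker.subtype) (map_subtype_le B)
  haveI : Finite L₁ := Finite.of_surjective q hq
  have hc := card_ker_of_quot (π := π) hq hρ
  have hB' : Nat.card q.ker = p ^ (m - k) := by
    rw [hk', ← hB]
    exact Nat.card_congr (B.equivMapOfInjective π.ker.subtype π.ker.subtype_injective).symm.toEquiv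
  have h2 : Nat.card ρ.ker = p ^ k := by
    rw [hB', hm] at hc
    have h3 : p ^ m = p ^ k * p ^ (m - k) := by rw [← pow_add]; congr 1; omega
    rw [h3] at hc
    exact (Nat.eq_of_mul_eq_mul_right (pow_pos hp.pos _) hc).symm
  obtain ⟨L', _, _, ρ', h3, ⟨e⟩⟩ := h1.lower
  exact ⟨L', inferInstance, inferInstance, ρ', h3, by rw [Nat.card_congr e.toEquiv, h2]⟩

/-- `Bd p 1` from the non-existence of perfect central extensions with kernel of order `p ^ 2`. -/
theorem bd_one {p : ℕ} (hp : p.Prime)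
    (h : ∀ (L : Type) [Group L] [Finite L] (π : L →* X), PCE π → Nat.card π.ker ≠ p ^ 2) : Bd p 1 X := by
  intro L _ _ π hπ hP
  haveI : Fact p.Prime := ⟨hp⟩
  obtain ⟨m, hm⟩ := hP.exists_card_eq
  have h1 : m ≤ 1 := by
    by_contra h0
    obtain ⟨L', _, _, ρ, h2, h3⟩ := hπ.exists_pow hp hP (k := 2) (by rw [hm]; exact pow_dvd_pow p (by omega))
    exact h L' ρ h2 h3
  rcases (by omega : m = 0 ∨ m = 1) with rfl | rfl
  · rw [pow_zero] at hm
    haveI : Subsingleton π.ker := (Nat.card_eq_one_iff_unique.1 hm).1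
    exact ⟨inferInstance, by rw [hm]; exact one_dvd _⟩
  · rw [pow_one] at hm
    exact ⟨isCyclic_of_prime_card hm, by rw [hm, pow_one]⟩

/-- The bounds at all primes give the bound. -/
theorem bound {n : ℕ} (hn : 0 < n) (hb : ∀ p, p.Prime → Bd p (n.factorization p) X)
    {L : Type u} [Group L] [Finite L] {π : L →* X} (h : PCE π) : IsCyclic π.ker ∧ Nat.card π.ker ∣ n := by
  classical
  letI : CommGroup π.ker := { (inferInstance : Group π.ker) with mul_comm := ker_comm h }
  have hcard0 : Nat.card π.ker ≠ 0 := Nat.card_pos.ne'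
  -- the p-part
  have key : ∀ p, p.Prime → ∃ (Q : Type) (_ : Group Q) (f : π.ker →* Q), Function.Surjective f ∧ IsCyclic Q ∧
      Nat.card Q ∣ p ^ (n.factorization p) ∧ Nat.card Q = p ^ ((Nat.card π.ker).factorization p) ∧
      (∀ x : π.ker, f x = 1 → ¬ p ∣ orderOf x) := by
    intro p hp
    haveI : Fact p.Prime := ⟨hp⟩
    set m := (Nat.card π.ker).factorization p with hm
    let s : π.ker →* π.ker := powMonoidHom (p ^ m)
    obtain ⟨L₁, _, q, ρ, hq, hk', hρ, h1⟩ := h.quot (N := s.range.map π.ker.subtype) (map_subtype_le _)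
    haveI : Finite L₁ := Finite.of_surjective q hq
    obtain ⟨f, hf, hfq⟩ := exists_ker_hom (π := π) hq hρ
    -- the order of elements of the range
    have hord : ∀ x ∈ s.range, ¬ p ∣ orderOf x := by
      rintro _ ⟨y, rfl⟩ hd
      have h2 : orderOf (s y) ∣ Nat.card π.ker / p ^ m := by
        apply orderOf_dvd_of_pow_eq_one
        show (y ^ (p ^ m)) ^ (Nat.card π.ker / p ^ m) = 1
        rw [← pow_mul, Nat.mul_div_cancel' (Nat.ordProj_dvd _ _), pow_card_eq_one']
      exact Nat.not_dvd_ordCompl hp hcard0 (hd.trans h2)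
    have hfker : ∀ x : π.ker, f x = 1 → x ∈ s.range := by
      intro x hx
      have h2 : (x : L) ∈ q.ker := by
        rw [MonoidHom.mem_ker, ← hfq, hx]; rfl
      rw [hk'] at h2
      obtain ⟨y, hy, hyx⟩ := h2
      have : y = x := Subtype.ext hyx
      rwa [← this]
    -- the quotient is a `p`-group
    have hPQ : IsPGroup p ρ.ker := by
      intro x
      obtain ⟨y, rfl⟩ := hf x
      refine ⟨m, ?_⟩
      rw [← map_pow]
      apply Subtype.ext
      rw [hfq]
      have : ((y ^ p ^ m : π.ker) : L) ∈ q.ker := by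
        rw [hk']
        exact ⟨y ^ p ^ m, ⟨y, rfl⟩, rfl⟩
      exact this
    obtain ⟨L', _, _, ρ', h3, ⟨e⟩⟩ := h1.lower
    obtain ⟨h4, h5⟩ := hb p hp L' ρ' h3 (hPQ.of_equiv e.symm)
    have hcardQ : Nat.card ρ.ker = p ^ m := by
      have hc := card_ker_of_quot (π := π) hq hρ
      obtain ⟨j, hj⟩ := hPQ.exists_card_eq
      have hnd : ¬ p ∣ Nat.card q.ker := by
        intro hd
        obtain ⟨z, hz⟩ := exists_prime_orderOf_dvd_card' p hd
        have hz' : (z : L) ∈ s.range.map π.ker.subtype := by rw [← hk']; exact z.2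
        obtain ⟨y, hy, hyz⟩ := hz'
        apply hord y hy
        have : orderOf y = orderOf z := by
          rw [← Subgroup.orderOf_coe y, ← Subgroup.orderOf_coe z]
          exact congrArg orderOf hyz
        rw [this, hz]
      rw [hj] at hc ⊢
      congr 1
      rw [hm, hc, Nat.factorization_mul (pow_pos hp.pos _).ne' Nat.card_pos.ne', Finsupp.add_apply,
        Nat.factorization_eq_zero_of_not_dvd hnd, add_zero, hp.factorization_pow, Finsupp.single_eq_same]
    refine ⟨ρ'.ker, inferInstance, e.symm.toMonoidHom.comp f, e.symm.surjective.comp hf, h4, h5, ?_, ?_⟩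
    · rw [Nat.card_congr e.toEquiv, hcardQ]
    · intro x hx
      apply hord x (hfker x _)
      exact e.symm.injective (by rw [map_one]; exact hx)
  constructor
  · -- cyclic
    haveI : IsZGroup π.ker := by
      refine ⟨fun p hp P => ?_⟩
      haveI : Fact p.Prime := ⟨hp⟩
      obtain ⟨Q, _, f, hf, hQ, -, -, hker⟩ := key p hp
      refine isCyclic_of_injective (f.comp (P : Subgroup π.ker).subtype) ?_
      rw [injective_iff_map_eq_one]
      intro x hx
      have h1 := hker x hx
      obtain ⟨k, hk⟩ := P.isPGroup' x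
      have h2 : orderOf (x : π.ker) ∣ p ^ k := by
        apply orderOf_dvd_of_pow_eq_one
        have := congrArg Subtype.val hk
        exact this
      obtain ⟨j, hj, hj'⟩ := (Nat.dvd_prime_pow hp).1 h2
      have h3 : j = 0 := by
        by_contra h0
        exact h1 (hj' ▸ dvd_pow_self p h0)
      rw [h3, pow_zero, orderOf_eq_one_iff] at hj'
      exact Subtype.ext hj'
    infer_instance
  · rw [← Nat.factorization_le_iff_dvd hcard0 hn.ne']
    intro p
    by_cases hp : p.Prime
    · obtain ⟨Q, _, f, hf, hQ, h1, h2, -⟩ := key p hp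
      rw [h2] at h1
      exact (Nat.pow_dvd_pow_iff_le_right hp.one_lt).1 h1
    · rw [Nat.factorization_eq_zero_of_not_prime _ hp]
      exact Nat.zero_le _

theorem bd_of_not_dvd [Finite X] {p : ℕ} (hp : p.Prime) (h : ¬ p ∣ Nat.card X) : Bd p 0 X :=
  (noCov_of_not_sq_dvd hp fun h1 => h ((dvd_pow_self p two_ne_zero).trans h1)).bd hp

/-- **`HasCyclicSchurMultiplier`** from the local bounds and the existence of one cover. -/
theorem hasCyclic {X : Type u} [Group X] [Finite X] (hX : commutator X = ⊤) {n : ℕ} (hn : 0 < n)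
    (hb : ∀ p, p.Prime → p ∣ Nat.card X → Bd p (n.factorization p) X)
    (hex : ∃ (L : Type u) (_ : Group L) (_ : Finite L) (π : L →* X), PCE π ∧ n ∣ Nat.card π.ker) :
    Cfsg.HasCyclicSchurMultiplier X n := by
  have hb' : ∀ p, p.Prime → Bd p (n.factorization p) X := by
    intro p hp
    by_cases hd : p ∣ Nat.card X
    · exact hb p hp hd
    · exact (bd_of_not_dvd hp hd).mono (Nat.zero_le _)
  haveI : NeZero n := ⟨hn.ne'⟩
  constructor
  · obtain ⟨L, _, _, π, h, hd⟩ := hex
    obtain ⟨h1, h2⟩ := bound hn hb' h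
    have h3 : Nat.card π.ker = n := Nat.dvd_antisymm h2 hd
    refine ⟨L, inferInstance, inferInstance, π, h.toStem, ⟨?_⟩⟩
    refine mulEquivOfCyclicCardEq ?_
    rw [h3, Nat.card_congr (Multiplicative.toAdd (α := ZMod n)), Nat.card_zmod]
  · intro Γ _ _ σ hσ
    obtain ⟨h1, h2⟩ := bound hn hb' (PCE.of_stem hσ hX)
    obtain ⟨g, hg⟩ := h1.exists_generator
    have h3 : g ^ n = 1 := by
      obtain ⟨k, hk⟩ := h2
      rw [hk, pow_mul, pow_card_eq_one', one_pow]
    let f : ℤ →+ Additive σ.ker := zmultiplesHom _ (Additive.ofMul g)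
    have hf : f (n : ℤ) = 0 := by
      show (n : ℤ) • Additive.ofMul g = 0
      rw [natCast_zsmul, ← ofMul_pow, h3, ofMul_one]
    let f' : ZMod n →+ Additive σ.ker := ZMod.lift n ⟨f, hf⟩
    refine ⟨AddMonoidHom.toMultiplicativeLeft f', ?_⟩
    intro x
    obtain ⟨k, hk⟩ := mem_zpowers_iff.1 (hg x)
    refine ⟨Multiplicative.ofAdd ((k : ℤ) : ZMod n), ?_⟩
    show (f' ((k : ℤ) : ZMod n)).toMul = x
    have h4 : f' ((k : ℤ) : ZMod n) = k • Additive.ofMul g := ZMod.lift_coe n ⟨f, hf⟩ k
    rw [h4, ← ofMul_zpow, hk]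
    rfl

/-- **Trivial multiplier** from the absence of `p`-fold covers. -/
theorem hasCyclic_one {X : Type u} [Group X] [Finite X] (hX : commutator X = ⊤)
    (hb : ∀ p, p.Prime → p ∣ Nat.card X → NoCov p X) : Cfsg.HasCyclicSchurMultiplier X 1 := by
  refine hasCyclic hX one_pos (fun p hp hd => ?_) ?_
  · have := (hb p hp hd).bd hp
    rwa [Nat.factorization_one]
  · exact ⟨X, inferInstance, inferInstance, MonoidHom.id X,
      ⟨Function.surjective_id, by rw [MonoidHom.ker_id]; exact bot_le, hX⟩, one_dvd _⟩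

end bounds

/-! ### The prime 2: translation of `KFacts` -/

section two

open Cfsg.Agent.KFacts.MulDef Cfsg.Agent.KFacts.MulBound

variable {X : Type v} [Group X]

theorem noCov_two (h : NoDouble X) : NoCov 2 X := by
  intro L _ _ π hπ hc
  have h1 := h.odd_card hπ.perf hπ.surj hπ.cen
  rw [hc] at h1
  exact absurd h1 (by decide)

theorem bd_two (h : OneCover X) : Bd 2 1 X := by
  apply bd_one Nat.prime_two
  intro L _ _ π hπ hc
  refine h.not_four_dvd hπ.perf hπ.surj hπ.cen ?_
  rw [hc]; norm_num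

end two

/-! ### Transfer -/

section transfer

variable {L : Type u} {X : Type v} [Group L] [Group X] {π : L →* X}

/-- A homomorphism of the preimage of a subgroup of `p'`-index to an abelian group kills the kernel. -/
theorem PCE.hom_eq_one [Finite L] (h : PCE π) {p : ℕ} (hp : p.Prime) (hker : IsPGroup p π.ker)
    {P : Subgroup L} (hle : π.ker ≤ P) (hP : ¬ p ∣ P.index) {B : Type*} [CommGroup B] (φ : P →* B)
    {z : L} (hz : π z = 1) : φ ⟨z, hle hz⟩ = 1 := by
  haveI : Fact p.Prime := ⟨hp⟩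
  have h1 := Cfsg.Agent.Transfer.CentralTransfer.map_pow_index_eq_one_of_perfect h.perf φ ⟨z, hle hz⟩
    (h.cen (MonoidHom.mem_ker.2 hz))
  obtain ⟨k, hk⟩ := hker ⟨z, MonoidHom.mem_ker.2 hz⟩
  have hk' : z ^ p ^ k = 1 := congrArg Subtype.val hk
  have h2 : φ ⟨z, hle hz⟩ ^ p ^ k = 1 := by
    rw [← map_pow]
    have : (⟨z, hle hz⟩ : P) ^ p ^ k = 1 := Subtype.ext hk'
    rw [this, map_one]
  have h3 : Nat.Coprime (p ^ k) P.index := Nat.Coprime.pow_left k ((Nat.Prime.coprime_iff_not_dvd hp).2 hP)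
  have h4 := Nat.dvd_gcd (orderOf_dvd_of_pow_eq_one h2) (orderOf_dvd_of_pow_eq_one h1)
  rw [h3.gcd_eq_one] at h4
  exact orderOf_eq_one_iff.1 (Nat.dvd_one.1 h4)

theorem PCE.le_commutator [Finite L] (h : PCE π) {p : ℕ} (hp : p.Prime) (hker : IsPGroup p π.ker)
    {P : Subgroup L} (hle : π.ker ≤ P) (hP : ¬ p ∣ P.index) : π.ker ≤ (commutator P).map P.subtype := by
  intro z hz
  have h1 := h.hom_eq_one hp hker hle hP (B := Abelianization P) Abelianization.of (z := z) hz
  refine ⟨⟨z, hle hz⟩, ?_, rfl⟩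
  exact (QuotientGroup.eq_one_iff _).1 h1

theorem index_comap (h : PCE π) (H : Subgroup X) : (H.comap π).index = H.index :=
  Subgroup.index_comap_of_surjective H h.surj

/-- the kernel is contained in the commutator subgroup of the preimage of a subgroup of `p'`-index -/
theorem PCE.le_commutator_comap [Finite L] (h : PCE π) {p : ℕ} (hp : p.Prime) (hker : IsPGroup p π.ker)
    {H : Subgroup X} (hH : ¬ p ∣ H.index) : π.ker ≤ ⁅H.comap π, H.comap π⁆ := by
  have h1 := h.le_commutator hp hker (P := H.comap π) (fun x hx => by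
    rw [mem_comap, MonoidHom.mem_ker.1 hx]; exact one_mem _) (by rwa [index_comap h])
  refine h1.trans ?_
  rw [commutator_def, Subgroup.map_commutator, ← MonoidHom.range_eq_map, Subgroup.range_subtype]

/-- restriction of a perfect central extension to the preimage of a perfect subgroup of `p'`-index -/
theorem NoCov.of_subgroup {p : ℕ} (hp : p.Prime) {H : Subgroup X} (hH : ¬ p ∣ H.index)
    (hperf : commutator H = ⊤) (hN : NoCov p H) : NoCov p X := by
  intro L _ _ π h hc
  have hker : IsPGroup p π.ker := IsPGroup.of_card (n := 1) (by rw [hc, pow_one])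
  set T := H.comap π with hT
  have hle := h.le_commutator_comap hp hker hH
  have hleT : ⁅T, T⁆ ≤ T := by
    rw [commutator_le]
    intro a ha b hb
    rw [commutatorElement_def]
    exact mul_mem (mul_mem (mul_mem ha hb) (inv_mem ha)) (inv_mem hb)
  have hmap : (⁅T, T⁆).map π = H := by
    rw [Subgroup.map_commutator, hT, Subgroup.map_comap_eq_self_of_surjective h.surj]
    have h1 := congrArg (Subgroup.map H.subtype) hperf
    rw [_root_.commutator_def, Subgroup.map_commutator, ← MonoidHom.range_eq_map, Subgroup.range_subtype] at h1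
    exact h1
  -- `T = Z [T, T]`
  have hT1 : ∀ x ∈ T, ∃ y ∈ ⁅T, T⁆, ∃ z, π z = 1 ∧ x = y * z := by
    intro x hx
    have h2 : π x ∈ (⁅T, T⁆).map π := by rw [hmap]; exact hx
    obtain ⟨y, hy, hyx⟩ := h2
    exact ⟨y, hy, y⁻¹ * x, by rw [map_mul, map_inv, hyx, inv_mul_cancel], by rw [mul_inv_cancel_left]⟩
  have hTT : ⁅T, T⁆ ≤ ⁅⁅T, T⁆, ⁅T, T⁆⁆ := by
    rw [commutator_le]
    intro a ha b hb
    obtain ⟨a', ha', z, hz, rfl⟩ := hT1 a ha
    obtain ⟨b', hb', w, hw, rfl⟩ := hT1 b hb
    have e : ⁅a' * z, b' * w⁆ = ⁅a', b'⁆ := by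
      have hz1 := h.comm hz
      have hw1 := h.comm hw
      have hzi : ∀ g, z⁻¹ * g = g * z⁻¹ := h.comm (by rw [map_inv, hz, inv_one])
      have hwi : ∀ g, w⁻¹ * g = g * w⁻¹ := h.comm (by rw [map_inv, hw, inv_one])
      simp only [commutatorElement_def, mul_inv_rev]
      calc a' * z * (b' * w) * (z⁻¹ * a'⁻¹) * (w⁻¹ * b'⁻¹)
          = a' * (z * (b' * w)) * (z⁻¹ * a'⁻¹) * (w⁻¹ * b'⁻¹) := by group
        _ = a' * ((b' * w) * z) * (z⁻¹ * a'⁻¹) * (w⁻¹ * b'⁻¹) := by rw [hz1]
        _ = a' * b' * (w * a'⁻¹) * (w⁻¹ * b'⁻¹) := by group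
        _ = a' * b' * (a'⁻¹ * w) * (w⁻¹ * b'⁻¹) := by rw [hw1]
        _ = a' * b' * a'⁻¹ * b'⁻¹ := by group
    rw [e]
    exact commutator_mem_commutator ha' hb'
  set D := ⁅T, T⁆ with hD
  have hDm : ∀ x : D, π x ∈ H := fun x => hleT x.2
  let ρ : D →* H := (π.comp D.subtype).codRestrict H hDm
  have hρ : PCE ρ := by
    refine ⟨?_, ?_, ?_⟩
    · rintro ⟨y, hy⟩
      rw [← hmap] at hy
      obtain ⟨x, hx, hxy⟩ := hy
      exact ⟨⟨x, hx⟩, Subtype.ext hxy⟩
    · intro x hx
      have hx' : π x = 1 := congrArg Subtype.val hx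
      rw [mem_center_iff]
      intro g
      exact Subtype.ext (h.comm hx' g).symm
    · rw [eq_top_iff]
      rintro ⟨x, hx⟩ -
      have h3 := hTT hx
      have h4 : (⁅D, D⁆ : Subgroup L) = (commutator D).map D.subtype := by
        rw [_root_.commutator_def, Subgroup.map_commutator, ← MonoidHom.range_eq_map, Subgroup.range_subtype]
      rw [h4] at h3
      obtain ⟨y, hy, hyx⟩ := h3
      have : y = ⟨x, hx⟩ := Subtype.ext hyx
      rwa [← this]
  refine hN D ρ hρ ?_
  rw [← hc]
  refine Nat.card_congr ⟨fun x => ⟨x.1.1, ?_⟩, fun x => ⟨⟨x.1, hle x.2⟩, ?_⟩, fun _ => rfl, fun _ => rfl⟩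
  · exact congrArg Subtype.val x.2
  · exact Subtype.ext x.2

end transfer

end Cfsg.Agent.H51.Mult
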