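import Mathlib
import Cfsg.Agent.H51.Crit
set_option linter.all false

/-!
# Schur multipliers: tools

* `cube_dvd_card`: `x ^ p = y ^ p = 1`, `c = [x, y] ≠ 1` commuting with `x`, `y`: `p ^ 3` divides `|⟨x, y⟩|`.
* `not_dvd_index_extra`: the index of `⟨x, y⟩` is not divisible by `p`, if `p ^ 4 ∤ |X|`.
* `not_dvd_index_sq`: the same for commuting `x`, `y`, `p ^ 3 ∤ |X|`.
* `pce_of_central`, `exists_cover`: a perfect central extension from a central extension of a perfect group.
* `mem_commutator_of_pow`.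
-/

set_option autoImplicit false
set_option linter.style.haveILetI false
set_option linter.unusedVariables false

namespace Cfsg.Agent.H51.Tools

open Subgroup Cfsg.Agent.H51.Mult
open scoped commutatorElement

universe u v

section index

variable {X : Type v} [Group X] [Finite X]

theorem isPGroup_zpowers {p : ℕ} {x : X} (hx : x ^ p = 1) : IsPGroup p (zpowers x) := by
  rintro ⟨y, hy⟩
  obtain ⟨j, rfl⟩ := mem_zpowers_iff.1 hy
  refine ⟨1, Subtype.ext ?_⟩
  show (x ^ j) ^ p ^ 1 = 1
  rw [pow_one, ← zpow_natCast, ← zpow_mul, mul_comm, zpow_mul, zpow_natCast, hx, one_zpow]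

/-- `⟨x, y⟩` is a `p`-group -/
theorem isPGroup_closure {p : ℕ} {x y : X} (hx : x ^ p = 1) (hy : y ^ p = 1)
    (hcp : ⁅x, y⁆ ^ p = 1) (hcx : ⁅x, y⁆ * x = x * ⁅x, y⁆) (hcy : ⁅x, y⁆ * y = y * ⁅x, y⁆) :
    IsPGroup p (closure {x, y} : Subgroup X) := by
  set c := ⁅x, y⁆ with hc
  have hxc : zpowers x ≤ normalizer (zpowers c : Set X) := by
    rw [zpowers_le, mem_normalizer_iff]
    intro g
    constructor
    · intro hg
      obtain ⟨j, rfl⟩ := mem_zpowers_iff.1 hg
      have h1 : Commute (c ^ j) x := (show Commute c x from hcx).zpow_left j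
      have h2 : x * c ^ j * x⁻¹ = c ^ j := by rw [← h1.eq, mul_inv_cancel_right]
      rw [h2]; exact hg
    · intro hg
      obtain ⟨j, hj⟩ := mem_zpowers_iff.1 hg
      have h1 : Commute (c ^ j) x := (show Commute c x from hcx).zpow_left j
      have h2 : g = x⁻¹ * (c ^ j) * x := by rw [hj]; group
      rw [h2, mul_assoc, h1.eq, inv_mul_cancel_left]
      exact ⟨j, rfl⟩
  have h1 : IsPGroup p ↥(zpowers x ⊔ zpowers c : Subgroup X) :=
    (isPGroup_zpowers hx).to_sup_of_normal_right' (isPGroup_zpowers hcp) hxc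
  -- conjugation by `y`
  have hconj : ∀ g ∈ (zpowers x ⊔ zpowers c : Subgroup X), y * g * y⁻¹ ∈ (zpowers x ⊔ zpowers c : Subgroup X) := by
    have h2 : (zpowers x ⊔ zpowers c : Subgroup X) ≤ (zpowers x ⊔ zpowers c).comap (MulAut.conj y).toMonoidHom := by
      refine sup_le ?_ ?_
      · rw [zpowers_le, mem_comap]
        show y * x * y⁻¹ ∈ _
        have h3 : y * x * y⁻¹ = c⁻¹ * x := by
          have h4 : c * (y * x) = x * y := by rw [hc, commutatorElement_def]; group
          have h5 : y * x = c⁻¹ * (x * y) := by rw [← h4]; group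
          rw [h5]; group
        rw [h3]
        exact mul_mem (inv_mem (mem_sup_right (mem_zpowers c))) (mem_sup_left (mem_zpowers x))
      · rw [zpowers_le, mem_comap]
        show y * c * y⁻¹ ∈ _
        rw [← hcy, mul_inv_cancel_right]
        exact mem_sup_right (mem_zpowers c)
    intro g hg
    exact h2 hg
  have hyn : zpowers y ≤ normalizer ((zpowers x ⊔ zpowers c : Subgroup X) : Set X) := by
    rw [zpowers_le]
    have h2 : (zpowers x ⊔ zpowers c : Subgroup X).map (MulAut.conj y).toMonoidHom = zpowers x ⊔ zpowers c := by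
      apply eq_of_le_of_card_ge
      · rintro _ ⟨g, hg, rfl⟩
        exact hconj g hg
      · rw [Nat.card_congr ((zpowers x ⊔ zpowers c : Subgroup X).equivMapOfInjective _
          (MulAut.conj y).injective).symm.toEquiv]
    rw [mem_normalizer_iff]
    intro g
    constructor
    · exact hconj g
    · intro hg
      have hg' : y * g * y⁻¹ ∈ (zpowers x ⊔ zpowers c : Subgroup X).map (MulAut.conj y).toMonoidHom := by
        rw [h2]; exact hg
      obtain ⟨g', h3, h4⟩ := hg'
      have h5 : y * g' * y⁻¹ = y * g * y⁻¹ := h4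
      have h6 : g' = g := mul_left_cancel (mul_right_cancel h5)
      rwa [← h6]
  have h2 : IsPGroup p ↥(zpowers y ⊔ (zpowers x ⊔ zpowers c) : Subgroup X) :=
    (isPGroup_zpowers hy).to_sup_of_normal_right' h1 hyn
  refine h2.to_le ?_
  rw [closure_le]
  rintro g (rfl | rfl)
  · exact mem_sup_right (mem_sup_left (mem_zpowers _))
  · exact mem_sup_left (mem_zpowers _)

theorem pow_comm_eq_one {p : ℕ} {x y : X} (hx : x ^ p = 1) (hcx : ⁅x, y⁆ * x = x * ⁅x, y⁆)
    (hcy : ⁅x, y⁆ * y = y * ⁅x, y⁆) : ⁅x, y⁆ ^ p = 1 := by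
  set κ := ⁅x, y⁆ with hκ
  have h10 : y⁻¹ * x * y = κ * x := by
    have h11 : x * y = κ * (y * x) := Cfsg.Agent.H51.Crit.mul_comm_of_comm.1 rfl
    calc y⁻¹ * x * y = y⁻¹ * (x * y) := by group
      _ = y⁻¹ * (κ * (y * x)) := by rw [← h11]
      _ = y⁻¹ * (κ * y) * x := by group
      _ = y⁻¹ * (y * κ) * x := by rw [hcy]
      _ = κ * x := by group
  have h11 : y⁻¹ * x ^ p * y = κ ^ p * x ^ p := by
    have h12 : (y⁻¹ * x * y) ^ p = y⁻¹ * x ^ p * y := by
      have := conj_pow (i := p) (a := y⁻¹) (b := x)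
      rwa [inv_inv] at this
    rw [← h12, h10]
    exact (show Commute κ x from hcx).mul_pow p
  rw [hx, mul_one, mul_one, inv_mul_cancel] at h11
  exact h11.symm

theorem cube_dvd_card {p : ℕ} (hp : p.Prime) {x y : X} (hx : x ^ p = 1) (hy : y ^ p = 1)
    (hcx : ⁅x, y⁆ * x = x * ⁅x, y⁆) (hcy : ⁅x, y⁆ * y = y * ⁅x, y⁆) (hc1 : ⁅x, y⁆ ≠ 1) :
    p ^ 3 ∣ Nat.card (closure {x, y} : Subgroup X) := by
  haveI : Fact p.Prime := ⟨hp⟩
  have h1 := isPGroup_closure hx hy (pow_comm_eq_one hx hcx hcy) hcx hcy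
  obtain ⟨n, hn⟩ := h1.exists_card_eq
  rw [hn]
  apply pow_dvd_pow
  by_contra h3
  have hxm : x ∈ (closure {x, y} : Subgroup X) := subset_closure (by simp)
  have hym : y ∈ (closure {x, y} : Subgroup X) := subset_closure (by simp)
  have hcomm : ∀ a b : (closure {x, y} : Subgroup X), a * b = b * a := by
    rcases (by omega : n = 0 ∨ n = 1 ∨ n = 2) with rfl | rfl | rfl
    · rw [pow_zero] at hn
      haveI : Subsingleton (closure {x, y} : Subgroup X) := (Nat.card_eq_one_iff_unique.1 hn).1
      intro a b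
      exact Subsingleton.elim _ _
    · rw [pow_one] at hn
      haveI := isCyclic_of_prime_card hn
      letI := IsCyclic.commGroup (α := (closure {x, y} : Subgroup X))
      exact fun a b => mul_comm a b
    · letI := IsPGroup.commGroupOfCardEqPrimeSq hn
      exact fun a b => mul_comm a b
  have h4 := congrArg Subtype.val (hcomm ⟨x, hxm⟩ ⟨y, hym⟩)
  exact hc1 (commutatorElement_eq_one_iff_mul_comm.2 h4)

theorem not_dvd_index_of {p k : ℕ} (hp : p.Prime) {H : Subgroup X} (h1 : p ^ k ∣ Nat.card H)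
    (h2 : ¬ p ^ (k + 1) ∣ Nat.card X) : ¬ p ∣ H.index := by
  intro h3
  apply h2
  rw [← H.card_mul_index, pow_succ]
  exact mul_dvd_mul h1 h3

/-- **The index of `⟨x, y⟩ = p^(1+2)`.** -/
theorem not_dvd_index_extra {p : ℕ} (hp : p.Prime) {x y : X} (hx : x ^ p = 1) (hy : y ^ p = 1)
    (hcx : ⁅x, y⁆ * x = x * ⁅x, y⁆) (hcy : ⁅x, y⁆ * y = y * ⁅x, y⁆) (hc1 : ⁅x, y⁆ ≠ 1)
    (h4 : ¬ p ^ 4 ∣ Nat.card X) : ¬ p ∣ (closure {x, y} : Subgroup X).index :=
  not_dvd_index_of hp (cube_dvd_card hp hx hy hcx hcy hc1) h4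

theorem sq_dvd_card {p : ℕ} (hp : p.Prime) {x y : X} (hx : x ^ p = 1) (hy : y ^ p = 1)
    (hxy : x * y = y * x) (hx1 : x ≠ 1) (hyx : y ∉ zpowers x) :
    p ^ 2 ∣ Nat.card (closure {x, y} : Subgroup X) := by
  haveI : Fact p.Prime := ⟨hp⟩
  have hc : ⁅x, y⁆ = 1 := commutatorElement_eq_one_iff_mul_comm.2 hxy
  have h1 := isPGroup_closure hx hy (by rw [hc, one_pow]) (by rw [hc, one_mul, mul_one]) (by rw [hc, one_mul, mul_one])
  obtain ⟨n, hn⟩ := h1.exists_card_eq
  rw [hn]
  apply pow_dvd_pow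
  by_contra h3
  have hxm : x ∈ (closure {x, y} : Subgroup X) := subset_closure (by simp)
  have hym : y ∈ (closure {x, y} : Subgroup X) := subset_closure (by simp)
  have hle : zpowers x ≤ closure {x, y} := by rw [zpowers_le]; exact hxm
  have hox : orderOf x = p := orderOf_eq_prime hx hx1
  have h5 : zpowers x = closure {x, y} := by
    apply eq_of_le_of_card_ge hle
    rw [hn, Nat.card_zpowers, hox]
    calc p ^ n ≤ p ^ 1 := Nat.pow_le_pow_right hp.pos (by omega)
      _ = p := pow_one p
  rw [h5] at hyx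
  exact hyx hym

/-- **The index of `⟨x, y⟩ = p²`.** -/
theorem not_dvd_index_sq {p : ℕ} (hp : p.Prime) {x y : X} (hx : x ^ p = 1) (hy : y ^ p = 1)
    (hxy : x * y = y * x) (hx1 : x ≠ 1) (hyx : y ∉ zpowers x)
    (h3 : ¬ p ^ 3 ∣ Nat.card X) : ¬ p ∣ (closure {x, y} : Subgroup X).index :=
  not_dvd_index_of hp (sq_dvd_card hp hx hy hxy hx1 hyx) h3

end index

section cover

variable {Y : Type u} {X : Type v} [Group Y] [Group X]

theorem exists_factor {q : Y →* X} (hq : Function.Surjective q) (hX : commutator X = ⊤) (y : Y) :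
    ∃ d ∈ commutator Y, ∃ z, q z = 1 ∧ y = d * z := by
  have h1 : q y ∈ (commutator Y).map q := by
    rw [_root_.commutator_def, Subgroup.map_commutator, Subgroup.map_top_of_surjective q hq,
      ← _root_.commutator_def, hX]
    exact mem_top _
  obtain ⟨d, hd, hdy⟩ := h1
  exact ⟨d, hd, d⁻¹ * y, by rw [map_mul, map_inv, hdy, inv_mul_cancel], by group⟩

/-- The commutator subgroup of a central extension of a perfect group is a perfect central extension. -/
theorem pce_of_central {q : Y →* X} (hq : Function.Surjective q) (hz : q.ker ≤ center Y)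
    (hX : commutator X = ⊤) : PCE (q.comp (commutator Y).subtype) := by
  refine ⟨?_, ?_, ?_⟩
  · intro x
    obtain ⟨y, rfl⟩ := hq x
    obtain ⟨d, hd, z, hz1, rfl⟩ := exists_factor hq hX y
    exact ⟨⟨d, hd⟩, by rw [map_mul, hz1, mul_one]; rfl⟩
  · intro x hx
    have hx' : q x = 1 := hx
    rw [mem_center_iff]
    intro g
    exact Subtype.ext (mem_center_iff.1 (hz (MonoidHom.mem_ker.2 hx')) g)
  · have h1 : (commutator Y) ≤ ⁅commutator Y, commutator Y⁆ := by
      conv_lhs => rw [_root_.commutator_def]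
      rw [commutator_le]
      intro a _ b _
      obtain ⟨a', ha', z, hz1, rfl⟩ := exists_factor hq hX a
      obtain ⟨b', hb', w, hw1, rfl⟩ := exists_factor hq hX b
      have hzc : ∀ g, z * g = g * z := fun g => (mem_center_iff.1 (hz (MonoidHom.mem_ker.2 hz1)) g).symm
      have hwc : ∀ g, w * g = g * w := fun g => (mem_center_iff.1 (hz (MonoidHom.mem_ker.2 hw1)) g).symm
      have e : ⁅a' * z, b' * w⁆ = ⁅a', b'⁆ := by
        rw [Cfsg.Agent.H51.Crit.mul_comm_of_comm, Cfsg.Agent.H51.Crit.rel_central hzc hwc,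
          ← Cfsg.Agent.H51.Crit.mul_comm_of_comm]
      rw [e]
      exact commutator_mem_commutator ha' hb'
    rw [eq_top_iff]
    rintro ⟨x, hx⟩ -
    have h2 := h1 hx
    have h4 : (⁅commutator Y, commutator Y⁆ : Subgroup Y) = (commutator (commutator Y)).map (commutator Y).subtype := by
      rw [_root_.commutator_def (commutator Y), Subgroup.map_commutator, ← MonoidHom.range_eq_map,
        Subgroup.range_subtype]
    rw [h4] at h2
    obtain ⟨y, hy, hyx⟩ := h2
    have : y = ⟨x, hx⟩ := Subtype.ext hyx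
    rwa [← this]

/-- **Existence of a cover** from a central extension and an element `z` of its commutator subgroup in the kernel. -/
theorem exists_cover {Y X : Type u} [Group Y] [Group X] [Finite Y] {q : Y →* X} (hq : Function.Surjective q)
    (hz : q.ker ≤ center Y) (hX : commutator X = ⊤) {n : ℕ} {z : Y} (hzc : z ∈ commutator Y) (hz1 : q z = 1)
    (hn : n ∣ orderOf z) :
    ∃ (L : Type u) (_ : Group L) (_ : Finite L) (π : L →* X), PCE π ∧ n ∣ Nat.card π.ker := by
  refine ⟨commutator Y, inferInstance, inferInstance, _, pce_of_central hq hz hX, ?_⟩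
  have h1 : orderOf (⟨⟨z, hzc⟩, hz1⟩ : (q.comp (commutator Y).subtype).ker) = orderOf z := by
    rw [← Subgroup.orderOf_coe, ← Subgroup.orderOf_coe]
  exact hn.trans (h1 ▸ orderOf_dvd_natCard _)

/-- an element of order prime to the exponent of the kernel lies in the commutator subgroup -/
theorem mem_commutator_of_pow {q : Y →* X} (hq : Function.Surjective q) (hz : q.ker ≤ center Y)
    (hX : commutator X = ⊤) {e k : ℕ} (he : ∀ z, q z = 1 → z ^ e = 1) {y : Y} (hy : y ^ k = 1)
    (hek : Nat.Coprime e k) : y ∈ commutator Y := by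
  obtain ⟨d, hd, z, hz1, rfl⟩ := exists_factor hq hX y
  have hzc : Commute d z := (mem_center_iff.1 (hz (MonoidHom.mem_ker.2 hz1)) d)
  have h1 : (d * z) ^ e ∈ commutator Y := by
    rw [hzc.mul_pow, he z hz1, mul_one]
    exact pow_mem hd e
  have h2 : (d * z) ^ k ∈ commutator Y := by rw [hy]; exact one_mem _
  have h3 : (d * z) ^ (1 : ℤ) ∈ commutator Y := by
    have h4 := Nat.gcd_eq_gcd_ab e k
    rw [hek.gcd_eq_one, Nat.cast_one] at h4
    rw [h4, zpow_add, zpow_mul, zpow_mul, zpow_natCast, zpow_natCast]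
    exact mul_mem (zpow_mem h1 _) (zpow_mem h2 _)
  rwa [zpow_one] at h3

end cover

/-- a simple group of composite order is perfect -/
theorem perfect_of_simple {X : Type v} [Group X] [Finite X] (hs : IsSimpleGroup X) (hp : ¬ (Nat.card X).Prime) :
    commutator X = ⊤ := by
  rcases hs.eq_bot_or_eq_top_of_normal (commutator X) inferInstance with h | h
  · exfalso
    apply hp
    have hcomm : ∀ x y : X, x * y = y * x := by
      intro x y
      rw [← commutatorElement_eq_one_iff_mul_comm, ← mem_bot, ← h]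
      exact commutator_mem_commutator (mem_top x) (mem_top y)
    letI : CommGroup X := { (inferInstance : Group X) with mul_comm := hcomm }
    haveI : IsSimpleGroup X := hs
    exact IsSimpleGroup.prime_card
  · exact h

/-- `Bd` at a prime not dividing `n` -/
theorem bd_factorization_of_noCov {X : Type v} [Group X] {n p : ℕ} (hp : p.Prime) (h : NoCov p X) :
    Bd p (n.factorization p) X := (h.bd hp).mono (Nat.zero_le _)

end Cfsg.Agent.H51.Tools
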