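import Cfsg.Agent.KFacts.RuDbl.Four
import Cfsg.Agent.H51.Tools
set_option linter.all false

/-!
# The 3-part and the 5-part of the Schur multiplier of the Rudvalis group are trivial

In the group of the Rudvalis graph on 4060 points: words in four involutions for an involution `t` and two elements `x`,
`y` (of order 3, resp. 5) inverted by `t` which generate a Sylow subgroup of order `27`, resp. `125`. Found by computer.
-/

set_option autoImplicit false
set_option maxRecDepth 100000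
set_option exponentiation.threshold 5000

namespace Cfsg.Agent.H51.RuOdd

open Subgroup
open Cfsg.Agent.SporadicB Cfsg.Agent.KFacts.RuDbl.Four
open Cfsg.Agent.H51.Mult
open scoped commutatorElement

/-- the involution `t` -/
def t : List ℕ := [1, 3, 1, 3, 1]
def t3 : List ℕ := [2, 1, 3, 1, 3, 1, 2]
def s3 : List ℕ := [0, 1, 2, 3, 1, 2, 0, 1, 3, 1, 0, 2, 1, 3, 2, 1, 0]
def t5 : List ℕ := [0, 3, 0, 1, 3, 1, 0, 1, 0, 1, 3, 1, 0, 3, 0]
def s5 : List ℕ := [3, 0, 1, 0, 2, 1, 3, 1, 3, 1, 2, 0, 1, 0, 3]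

/-- the `n`-th power of a word -/
def pw (n : ℕ) (w : List ℕ) : List ℕ := (List.replicate n w).flatten

theorem W4_pw (n : ℕ) (w : List ℕ) : W4 (pw n w) = W4 w ^ n := by
  induction n with
  | zero => rfl
  | succ n ih =>
    rw [pw, List.replicate_succ, List.flatten_cons, W4_append, pow_succ']
    congr 1

theorem inv_of {u v : List ℕ} (h : eqw4 (u ++ v) [] = true) : (W4 u)⁻¹ = W4 v := by
  have h1 := eqw4_sound h
  rw [W4_append, W4_nil] at h1
  exact inv_eq_of_mul_eq_one_right h1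

theorem pow_of {u : List ℕ} {n : ℕ} (h : eqw4 (pw n u) [] = true) : W4 u ^ n = 1 := by
  have h1 := eqw4_sound h
  rwa [W4_pw, W4_nil] at h1

theorem ne_one {u : List ℕ} (b : Fin 4060) (h : Nat.beq (ev4 u b) b = false) : W4 u ≠ 1 := by
  intro h1
  have h2 := W4_apply b u
  rw [h1] at h2
  have h3 : ((((1 : RuOrder.H) : Equiv.Perm (Fin 4060)) b : Fin 4060) : ℕ) = b := rfl
  rw [h3] at h2
  rw [← h2] at h
  simp at h

/-- the commutator word -/
def cw (x y : List ℕ) : List ℕ := x ++ y ++ x.reverse ++ y.reverse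

/-- all checks -/
structure Chk (p : ℕ) (x y : List ℕ) : Prop where
  xi : eqw4 (x ++ x.reverse) [] = true
  yi : eqw4 (y ++ y.reverse) [] = true
  xp : eqw4 (pw p x) [] = true
  yp : eqw4 (pw p y) [] = true
  cx : eqw4 (cw x y ++ x) (x ++ cw x y) = true
  cy : eqw4 (cw x y ++ y) (y ++ cw x y) = true
  tt : eqw4 (t ++ t) [] = true
  tx : eqw4 (t ++ x ++ t) x.reverse = true
  ty : eqw4 (t ++ y ++ t) y.reverse = true
  ne : ∃ b : Fin 4060, Nat.beq (ev4 (cw x y) b) b = false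

theorem noCov_of_chk [Finite RuOrder.H] {p : ℕ} (hp : p.Prime) (hp2 : p ≠ 2) {x y : List ℕ} (h : Chk p x y)
    (hcard : ¬ p ^ 4 ∣ Nat.card RuOrder.H) : NoCov p RuOrder.H := by
  have hx := inv_of h.xi
  have hy := inv_of h.yi
  have ht := inv_of h.tt
  have hc : ⁅W4 x, W4 y⁆ = W4 (cw x y) := by
    rw [cw, W4_append, W4_append, W4_append, ← hx, ← hy, commutatorElement_def]
  have hcx : ⁅W4 x, W4 y⁆ * W4 x = W4 x * ⁅W4 x, W4 y⁆ := by
    rw [hc, ← W4_append, ← W4_append]; exact eqw4_sound h.cx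
  have hcy : ⁅W4 x, W4 y⁆ * W4 y = W4 y * ⁅W4 x, W4 y⁆ := by
    rw [hc, ← W4_append, ← W4_append]; exact eqw4_sound h.cy
  have hc1 : ⁅W4 x, W4 y⁆ ≠ 1 := by
    obtain ⟨b, hb⟩ := h.ne
    rw [hc]; exact ne_one b hb
  refine Cfsg.Agent.H51.Crit.noCov_extra hp hp2 (x := W4 x) (y := W4 y) (t := W4 t) hcx hcy hc1 (pow_of h.xp)
    (Cfsg.Agent.H51.Tools.not_dvd_index_extra hp (pow_of h.xp) (pow_of h.yp) hcx hcy hc1 hcard) (i := 0) (j := 0) ?_ ?_
  · rw [zpow_zero, mul_one, ht, hx, ← W4_append, ← W4_append]; exact eqw4_sound h.tx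
  · rw [zpow_zero, mul_one, ht, hy, ← W4_append, ← W4_append]; exact eqw4_sound h.ty

theorem chk3 : Chk 3 (t ++ t3) (t ++ s3) := by
  refine ⟨?_, ?_, ?_, ?_, ?_, ?_, ?_, ?_, ?_, ⟨⟨0, by norm_num⟩, ?_⟩⟩ <;> decide +kernel

theorem chk5 : Chk 5 (t ++ t5) (t ++ s5) := by
  refine ⟨?_, ?_, ?_, ?_, ?_, ?_, ?_, ?_, ?_, ⟨⟨0, by norm_num⟩, ?_⟩⟩ <;> decide +kernel

end Cfsg.Agent.H51.RuOdd
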