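import Cfsg.Agent.KFacts.MulSpor.ONWords
import Cfsg.Agent.ONType.TupRow
import Cfsg.Agent.H51.Tools
set_option linter.all false

/-!
# The 7-part of the Schur multiplier of the O'Nan group is trivial

A Sylow 7-subgroup `⟨x, y⟩` of order `7³` in `L₃(7) ≤ ⟨a, …, f⟩`, inverted modulo its centre by `t = b d`.
The words were found by computer (breadth first search in `L₃(7):2`), they are checked in the 45-dimensional
representation.
-/

set_option autoImplicit false
set_option maxRecDepth 100000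
set_option Elab.async false

namespace Cfsg.Agent.H51.ONSeven

open Subgroup
open Cfsg.Spor (ON)
open Cfsg.Spor.ON (Gen)
open Cfsg.Agent.KFacts.MulSpor.ON (w w_append w_one w_cons w_iw iw okw rel eqw cj mats)
open Cfsg.Agent.SporadicB.ON45Word (on LW)
open Cfsg.Agent.ONType.TupRow (rowNe ne_of_rowNe)
open Cfsg.Agent.H51.Mult
open scoped commutatorElement

def wx : List Gen := [.b, .a, .e, .d, .c, .d, .c, .e, .d, .c, .f, .e]
def wy : List Gen := [.b, .d, .c, .b, .d, .c, .d, .c, .e, .d, .c, .b, .d, .c]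
def wt : List Gen := [.b, .d]
/-- `[x, y]` -/
def wc : List Gen := wx ++ wy ++ iw wx ++ iw wy

theorem w_nil : w [] = 1 := rfl

section

variable (hs : IsSimpleGroup ON)

include hs

theorem w_wc : w wc = ⁅w wx, w wy⁆ := by
  rw [wc, w_append, w_append, w_append, w_iw hs, w_iw hs, commutatorElement_def]

theorem x7 : w wx ^ 7 = 1 := by
  have : w wx ^ 7 = w (wx ++ wx ++ wx ++ wx ++ wx ++ wx ++ wx) := by
    simp only [w_append, pow_succ, pow_zero, one_mul]
  rw [this]; exact rel hs _ (by decide +kernel)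

theorem y7 : w wy ^ 7 = 1 := by
  have : w wy ^ 7 = w (wy ++ wy ++ wy ++ wy ++ wy ++ wy ++ wy) := by
    simp only [w_append, pow_succ, pow_zero, one_mul]
  rw [this]; exact rel hs _ (by decide +kernel)

theorem cx : ⁅w wx, w wy⁆ * w wx = w wx * ⁅w wx, w wy⁆ := by
  rw [← w_wc hs, ← w_append, ← w_append]
  exact eqw hs _ _ (by decide +kernel)

theorem cy : ⁅w wx, w wy⁆ * w wy = w wy * ⁅w wx, w wy⁆ := by
  rw [← w_wc hs, ← w_append, ← w_append]
  exact eqw hs _ _ (by decide +kernel)

theorem tx : w wt * w wx * (w wt)⁻¹ = (w wx)⁻¹ := by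
  rw [← w_iw hs, ← w_iw hs, ← w_append, ← w_append]
  exact eqw hs _ _ (by decide +kernel)

theorem ty : w wt * w wy * (w wt)⁻¹ = (w wy)⁻¹ := by
  rw [← w_iw hs, ← w_iw hs, ← w_append, ← w_append]
  exact eqw hs _ _ (by decide +kernel)

theorem c_ne : ⁅w wx, w wy⁆ ≠ 1 := by
  rw [← w_wc hs, ← w_nil]
  exact ne_of_rowNe (LW.word _) (LW.word _) (by decide +kernel)

end

theorem noCov (hON : Cfsg.IsON ON) [Finite ON] : NoCov 7 ON := by
  have hs := hON.1
  refine Cfsg.Agent.H51.Crit.noCov_extra (by norm_num) (by norm_num) (x := w wx) (y := w wy) (t := w wt) (cx hs) (cy hs)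
    (c_ne hs) (x7 hs) ?_ (i := 0) (j := 0) ?_ ?_
  · refine Cfsg.Agent.H51.Tools.not_dvd_index_extra (by norm_num) (x7 hs) (y7 hs) (cx hs) (cy hs) (c_ne hs) ?_
    rw [hON.2]
    norm_num
  · rw [zpow_zero, mul_one]; exact tx hs
  · rw [zpow_zero, mul_one]; exact ty hs

end Cfsg.Agent.H51.ONSeven
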